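import Mathlib
import Cfsg.Agent.Schreier.ClassPSL
import Cfsg.Agent.LieRecognition.FieldSemilinear
import Cfsg.Agent.ClassicalGeometry.PSL2Basic

/-!
# Groups acting on a perfect normal subgroup `L` with `L / Z(L)` isomorphic to `PSL(2, F)`
-/

set_option autoImplicit false

namespace Cfsg.Agent.H688.TransAut

open Matrix Cfsg.Agent.Schreier.ClassPSL
open Cfsg.Agent.ClassicalGeometry.AutPSL.Root Cfsg.Agent.ClassicalGeometry.AutPSL.Auto
  Cfsg.Agent.ClassicalGeometry.AutPSL.Main

section general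

/-- The action of automorphisms on the central quotient. -/
def autQ (X : Type*) [Group X] : MulAut X →* MulAut (X ⧸ Subgroup.center X) where
  toFun e := QuotientGroup.congr _ _ e
    (Subgroup.characteristic_iff_map_eq.1 inferInstance e)
  map_one' := by
    apply MulEquiv.ext
    rintro ⟨x⟩
    rfl
  map_mul' e f := by
    apply MulEquiv.ext
    rintro ⟨x⟩
    rfl

theorem autQ_mk {X : Type*} [Group X] (e : MulAut X) (x : X) :
    autQ X e (QuotientGroup.mk x) = QuotientGroup.mk (e x) := rfl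

/-- Automorphisms of a perfect group trivial on the central quotient are trivial. -/
theorem autQ_injective {X : Type*} [Group X] (hX : commutator X = ⊤) :
    Function.Injective (autQ X) := by
  rw [injective_iff_map_eq_one]
  intro e he
  have h1 : ∀ x : X, e x * x⁻¹ ∈ Subgroup.center X := by
    intro x
    have h2 : autQ X e (QuotientGroup.mk x) = QuotientGroup.mk x := by rw [he]; rfl
    rw [autQ_mk] at h2
    have h3 := QuotientGroup.eq.1 h2
    have h4 : e x * x⁻¹ = x * ((e x)⁻¹ * x)⁻¹ * x⁻¹ := by group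
    rw [h4]
    exact (inferInstance : (Subgroup.center X).Normal).conj_mem _ (inv_mem h3) x
  let f : X →* Subgroup.center X :=
    { toFun := fun x => ⟨e x * x⁻¹, h1 x⟩
      map_one' := by
        apply Subtype.ext
        simp
      map_mul' := fun x y => by
        apply Subtype.ext
        show e (x * y) * (x * y)⁻¹ = e x * x⁻¹ * (e y * y⁻¹)
        have h5 := Subgroup.mem_center_iff.1 (h1 y) x⁻¹
        rw [map_mul]
        calc e x * e y * (x * y)⁻¹ = e x * ((e y * y⁻¹) * x⁻¹) := by group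
          _ = e x * (x⁻¹ * (e y * y⁻¹)) := by rw [h5]
          _ = _ := by group }
  have h6 : commutator X ≤ f.ker := by
    rw [commutator_def, Subgroup.commutator_le]
    intro a _ b _
    rw [MonoidHom.mem_ker, map_commutatorElement, commutatorElement_eq_one_iff_mul_comm]
    exact Subtype.ext (Subgroup.mem_center_iff.1 (f b).2 (f a))
  rw [hX] at h6
  apply MulEquiv.ext
  intro x
  have h7 : f x = 1 := h6 (Subgroup.mem_top x)
  have h8 : e x * x⁻¹ = 1 := congrArg Subtype.val h7
  exact mul_inv_eq_one.1 h8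

/-- A group acts on a perfect normal subgroup modulo its center, with kernel the centralizer. -/
theorem exists_phi {H : Type*} [Group H] (L : Subgroup H) (hLn : L.Normal)
    (hL : commutator L = ⊤) {Y : Type*} [Group Y] (e : L ⧸ Subgroup.center L ≃* Y) :
    ∃ Φ : H →* MulAut Y, Φ.ker = Subgroup.centralizer (L : Set H) ∧
      ∀ l : L, Φ l = MulAut.conj (e (QuotientGroup.mk l)) := by
  refine ⟨(MulAut.congr e).toMonoidHom.comp ((autQ L).comp MulAut.conjNormal), ?_, ?_⟩
  · ext h
    rw [MonoidHom.mem_ker, Subgroup.mem_centralizer_iff]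
    constructor
    · intro h1 n hn
      have h2 : autQ L (MulAut.conjNormal h) = 1 := (MulAut.congr e).injective (by
        rw [map_one]
        exact h1)
      have h3 : (MulAut.conjNormal h : MulAut L) = 1 := autQ_injective hL (by rw [h2, map_one])
      have h4 := congrArg (fun f : MulAut L => ((f ⟨n, hn⟩ : L) : H)) h3
      simp only [MulAut.conjNormal_apply, MulAut.one_apply] at h4
      rw [mul_inv_eq_iff_eq_mul] at h4
      exact h4.symm
    · intro h1
      have h3 : (MulAut.conjNormal h : MulAut L) = 1 := by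
        apply MulEquiv.ext
        intro n
        apply Subtype.ext
        rw [MulAut.conjNormal_apply, MulAut.one_apply, ← h1 n n.2, mul_inv_cancel_right]
      show (MulAut.congr e) (autQ L (MulAut.conjNormal h)) = 1
      rw [h3, map_one, map_one]
  · intro l
    apply MulEquiv.ext
    intro y
    obtain ⟨x, rfl⟩ := e.surjective y
    obtain ⟨x, rfl⟩ := QuotientGroup.mk_surjective x
    show e (autQ L (MulAut.conjNormal (l : H)) (e.symm (e (QuotientGroup.mk x)))) = _
    rw [e.symm_apply_apply, autQ_mk, MulAut.conj_apply, ← map_inv, ← map_mul, ← map_mul]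
    rfl

end general

section psl

variable {F : Type*} [Field F]

/-- Inner-diagonal automorphisms with square determinant are inner. -/
theorem lift_cj_of_det (A : GL (Fin 2) F) (d : F) (hd : d ^ 2 = (A : Matrix (Fin 2) (Fin 2) F).det) :
    ∃ g : Matrix.ProjectiveSpecialLinearGroup (Fin 2) F, lift (cj A) = MulAut.conj g := by
  have hdet : (A : Matrix (Fin 2) (Fin 2) F).det ≠ 0 := by
    have h1 := (Matrix.GeneralLinearGroup.det A).ne_zero
    rwa [Matrix.GeneralLinearGroup.val_det_apply] at h1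
  have hd0 : d ≠ 0 := by
    rintro rfl
    apply hdet
    rw [← hd]
    simp
  have hs : (d⁻¹ • (A : Matrix (Fin 2) (Fin 2) F)).det = 1 := by
    rw [Matrix.det_smul, Fintype.card_fin, ← hd, inv_pow, inv_mul_cancel₀ (pow_ne_zero 2 hd0)]
  obtain ⟨s, hsdef⟩ : ∃ s : Matrix.SpecialLinearGroup (Fin 2) F,
    s.1 = d⁻¹ • (A : Matrix (Fin 2) (Fin 2) F) := ⟨⟨_, hs⟩, rfl⟩
  refine ⟨pr s, ?_⟩
  apply MulEquiv.ext
  intro x
  obtain ⟨x, rfl⟩ := pr_surjective x
  rw [lift_pr, MulAut.conj_apply, ← map_inv, ← map_mul, ← map_mul]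
  congr 1
  apply Subtype.ext
  rw [coe_cj]
  have hinv : (s⁻¹ : Matrix.SpecialLinearGroup (Fin 2) F).1 =
      d • ((A⁻¹ : GL (Fin 2) F) : Matrix (Fin 2) (Fin 2) F) := by
    have h1 : (s * s⁻¹ : Matrix.SpecialLinearGroup (Fin 2) F).1 = 1 := by rw [mul_inv_cancel]; rfl
    have h2 : (d⁻¹ • (A : Matrix (Fin 2) (Fin 2) F)) * (s⁻¹ : Matrix.SpecialLinearGroup (Fin 2) F).1 = 1 := by
      rw [← hsdef]
      exact h1
    have h3 : (d • ((A⁻¹ : GL (Fin 2) F) : Matrix (Fin 2) (Fin 2) F)) *
        (d⁻¹ • (A : Matrix (Fin 2) (Fin 2) F)) = 1 := by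
      rw [smul_mul_smul_comm, mul_inv_cancel₀ hd0, one_smul, ← Units.val_mul, inv_mul_cancel,
        Units.val_one]
    calc (s⁻¹ : Matrix.SpecialLinearGroup (Fin 2) F).1
        = ((d • ((A⁻¹ : GL (Fin 2) F) : Matrix (Fin 2) (Fin 2) F)) *
            (d⁻¹ • (A : Matrix (Fin 2) (Fin 2) F))) *
          (s⁻¹ : Matrix.SpecialLinearGroup (Fin 2) F).1 := by rw [h3, one_mul]
      _ = _ := by rw [mul_assoc, h2, mul_one]
  change _ = s.1 * x.1 * (s⁻¹ : Matrix.SpecialLinearGroup (Fin 2) F).1
  rw [hinv, hsdef, smul_mul_assoc, smul_mul_smul_comm, inv_mul_cancel₀ hd0, one_smul]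

/-- Squares of inner-diagonal automorphisms are inner. -/
theorem lift_cj_sq (A : GL (Fin 2) F) :
    ∃ g : Matrix.ProjectiveSpecialLinearGroup (Fin 2) F, lift (cj A) ^ 2 = MulAut.conj g := by
  obtain ⟨g, hg⟩ := lift_cj_of_det (A ^ 2) (A : Matrix (Fin 2) (Fin 2) F).det (by
    rw [← Matrix.det_pow]
    rfl)
  exact ⟨g, by rw [← hg, map_pow, map_pow]⟩

/-- The field part of an automorphism of `PSL(2, F)`. -/
theorem exists_gal [Finite F] : ∃ γ : MulAut (Matrix.ProjectiveSpecialLinearGroup (Fin 2) F) →* (F ≃+* F),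
    ∀ α, γ α = 1 → ∃ A : GL (Fin 2) F, α = lift (cj A) := by
  classical
  have : Fintype F := Fintype.ofFinite F
  obtain ⟨p, hp⟩ := CharP.exists F
  have hpf : Fact p.Prime := ⟨CharP.char_is_prime F p⟩
  have hs := surj_two (F := F) p
  choose a s has using hs
  have huniq : ∀ (A B : GL (Fin 2) F) (σ τ : F ≃+* F), lift (cj A * fld σ) = lift (cj B * fld τ) →
      σ = τ := by
    intro A B σ τ h
    have h1 : lift (cj (B⁻¹ * A) * fld σ) = lift (fld τ) := by
      rw [map_mul cj, map_inv, mul_assoc, map_mul, h, ← map_mul, ← mul_assoc, inv_mul_cancel,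
        one_mul]
    exact (injective_aux h1).2
  refine ⟨MonoidHom.mk' s ?_, ?_⟩
  · intro α β
    apply huniq (a (α * β)) (a α * Matrix.GeneralLinearGroup.map (s α : F →+* F) (a β))
    rw [← has (α * β)]
    conv_lhs => rw [has α, has β]
    rw [← map_mul, map_mul cj, map_mul fld, mul_assoc, mul_assoc, ← mul_assoc (fld (s α)),
      fld_mul_cj, mul_assoc]
  · intro α h
    refine ⟨a α, ?_⟩
    have h1 := has α
    have h2 : s α = 1 := h
    rw [h2, map_one, mul_one] at h1
    exact h1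

/-- If `H` acts on `PSL(2, F)`, `L` contains the preimage of the inner automorphisms and
`H / L` is a `p`-group, `p` odd or `p = 2` the characteristic, then `H / L` is cyclic. -/
theorem exists_gen [Finite F] {H : Type*} [Group H] (L : Subgroup H)
    (Φ : H →* MulAut (Matrix.ProjectiveSpecialLinearGroup (Fin 2) F))
    (h1 : ∀ h : H, (∃ g, Φ h = MulAut.conj g) → h ∈ L)
    (h2 : CharP F 2 ∨ ∀ h : H, h ^ 2 ∈ L → h ∈ L) :
    ∃ h : H, L ⊔ Subgroup.zpowers h = ⊤ := by
  classical
  have : Fintype F := Fintype.ofFinite F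
  obtain ⟨γ, hγ⟩ := exists_gal (F := F)
  have hc : IsCyclic (F ≃+* F) := LieRecognition.FieldSemilinear.isCyclic_ringAut F
  have hc2 : IsCyclic (γ.comp Φ).range := inferInstance
  obtain ⟨⟨_, h, rfl⟩, hh⟩ := hc2.exists_generator
  refine ⟨h, ?_⟩
  have hker : ∀ x : H, γ (Φ x) = 1 → x ∈ L := by
    intro x hx
    obtain ⟨A, hA⟩ := hγ _ hx
    rcases h2 with h2 | h2
    · have hd : ∃ d : F, d ^ 2 = (A : Matrix (Fin 2) (Fin 2) F).det := by
        obtain ⟨d, hd⟩ := (PerfectRing.bijective_frobenius (R := F) (p := 2)).2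
          (A : Matrix (Fin 2) (Fin 2) F).det
        exact ⟨d, hd⟩
      obtain ⟨d, hd⟩ := hd
      obtain ⟨g, hg⟩ := lift_cj_of_det A d hd
      exact h1 x ⟨g, by rw [hA, hg]⟩
    · obtain ⟨g, hg⟩ := lift_cj_sq A
      exact h2 x (h1 _ ⟨g, by rw [map_pow, hA, hg]⟩)
  rw [eq_top_iff]
  intro x _
  obtain ⟨k, hk⟩ := Subgroup.mem_zpowers_iff.1 (hh ⟨_, x, rfl⟩)
  have h3 : γ (Φ (x * (h ^ k)⁻¹)) = 1 := by
    have h4 : (γ (Φ h)) ^ k = γ (Φ x) := congrArg Subtype.val hk
    rw [map_mul, map_mul, map_inv, map_inv, map_zpow, map_zpow, h4, mul_inv_cancel]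
  have h5 : x = x * (h ^ k)⁻¹ * h ^ k := by group
  rw [h5]
  exact Subgroup.mul_mem_sup (hker _ h3) (Subgroup.mem_zpowers_iff.2 ⟨k, rfl⟩)

/-- The order of `Aut(PSL(2, ℓ))`. -/
theorem card_aut [Fintype F] (h : (Fintype.card F).Prime) :
    Nat.card (MulAut (Matrix.ProjectiveSpecialLinearGroup (Fin 2) F)) =
      Fintype.card F * (Fintype.card F ^ 2 - 1) := by
  obtain ⟨p, hp⟩ := CharP.exists F
  have hpf : Fact p.Prime := ⟨CharP.char_is_prime F p⟩
  rw [card_two p, Cfsg.Agent.ClassicalGeometry.PSL2Basic.card_PGL2]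
  have h1 : Nat.card (F ≃+* F) = 1 := by
    have hpc : p = Fintype.card F := by
      have h2 : p ∣ Fintype.card F := (CharP.cast_eq_zero_iff F p _).1 (by simp)
      exact (Nat.prime_dvd_prime_iff_eq hpf.out h).1 h2
    subst hpc
    have e := ZMod.ringEquiv F (rfl : Fintype.card F = Fintype.card F)
    rw [Nat.card_eq_one_iff_unique]
    refine ⟨⟨fun a b => ?_⟩, ⟨1⟩⟩
    apply RingEquiv.ext
    intro x
    obtain ⟨y, rfl⟩ := e.surjective x
    exact congrFun (congrArg DFunLike.coe (RingHom.ext_zmod ((a : F →+* F).comp e.toRingHom)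
      ((b : F →+* F).comp e.toRingHom))) y
  rw [h1, mul_one]

end psl

end Cfsg.Agent.H688.TransAut
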