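import Mathlib
import Cfsg.Agent.H688.TransEvenA
import Cfsg.Agent.Involutions.BaerSuzuki
import Cfsg.Agent.AschCrit.Basic
import Cfsg.Agent.TwoFusion.StronglyEmbeddedBasic
import Cfsg.Agent.Blocks.Central

/-!
# Characteristic two: the Suzuki groups do not occur
-/

set_option autoImplicit false

namespace Cfsg.Agent.H688.TransSuz

open Cfsg Module Cfsg.Agent.H688.TransLin Cfsg.Agent.H688.TransSolv Cfsg.Agent.H688.TransMin
open Cfsg.Agent.H688.TransCount Cfsg.Agent.H688.TransShape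
open Cfsg.Agent.H688.TransOdd Cfsg.Agent.H688.TransOddB
open Cfsg.Agent.PermutationGroups.RegularLinear Cfsg.Agent.PermutationGroups
open scoped commutatorElement

/-- If `2^c + 1 ∣ 2^n - 1` then `2c ∣ n`. -/
theorem two_mul_dvd {c n : ℕ} (hc : 1 ≤ c) (h : 2 ^ c + 1 ∣ 2 ^ n - 1) : 2 * c ∣ n := by
  have h1 : 2 ^ c + 1 ∣ 2 ^ (2 * c) - 1 := by
    refine ⟨2 ^ c - 1, ?_⟩
    have h2 : 2 ^ (2 * c) = (2 ^ c) ^ 2 := by rw [← pow_mul, mul_comm]
    rw [h2]
    exact Nat.sq_sub_sq (2 ^ c) 1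
  have h3 := Nat.dvd_gcd h1 h
  rw [Nat.pow_sub_one_gcd_pow_sub_one] at h3
  set g := (2 * c).gcd n with hg
  have hg1 : g ∣ 2 * c := Nat.gcd_dvd_left _ _
  have hg0 : 0 < g := Nat.gcd_pos_of_pos_left _ (by omega)
  have h4 : 0 < 2 ^ g - 1 := by
    have : 2 ^ 1 ≤ 2 ^ g := Nat.pow_le_pow_right (by norm_num) hg0
    omega
  have h5 := Nat.le_of_dvd h4 h3
  have h6 : 2 ^ c < 2 ^ g := by omega
  have h7 : c < g := (Nat.pow_lt_pow_iff_right (by norm_num)).1 h6
  have h8 : g = 2 * c := by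
    obtain ⟨k, hk⟩ := hg1
    have hk0 : k ≠ 0 := by
      rintro rfl
      omega
    have hk2 : k < 2 := by
      by_contra hk2
      have : g * 2 ≤ g * k := Nat.mul_le_mul_left g (by omega)
      omega
    have hk1 : k = 1 := by omega
    rw [hk1] at hk
    omega
  rw [← h8]
  exact Nat.gcd_dvd_right _ _

variable {V : Type*} [AddCommGroup V] [Module (ZMod 2) V]
variable {H : Subgroup (V ≃ₗ[ZMod 2] V)} {L : Subgroup H}

/-- `v + v = 0` in characteristic two. -/
theorem add_self (v : V) : v + v = 0 := by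
  have h : (2 : ZMod 2) • v = 0 := by
    have : (2 : ZMod 2) = 0 := rfl
    rw [this, zero_smul]
  rwa [two_smul] at h

theorem eq_of_add_eq_zero' {v w : V} (h : v + w = 0) : v = w := by
  have h1 : v + w + w = w := by rw [h, zero_add]
  rwa [add_assoc, add_self, add_zero] at h1

/-- The fixed space of an element. -/
def fe (t : H) : Submodule (ZMod 2) V := fx {t}

theorem mem_fe {t : H} {v : V} : v ∈ fe t ↔ (t : V ≃ₗ[ZMod 2] V) v = v := by
  constructor
  · intro h
    exact h t rfl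
  · intro h s hs
    rw [Set.mem_singleton_iff.1 hs]
    exact h

/-- An involution fixes at least `|V|^{1/2}` vectors. -/
theorem card_fe_sq [Finite V] {t : H} (ht : t * t = 1) : Nat.card V ≤ Nat.card (fe t) ^ 2 := by
  let f : V →+ V :=
    { toFun := fun v => v + (t : V ≃ₗ[ZMod 2] V) v
      map_zero' := by simp
      map_add' := fun v w => by rw [map_add]; abel }
  have htt : ∀ v : V, (t : V ≃ₗ[ZMod 2] V) ((t : V ≃ₗ[ZMod 2] V) v) = v := fun v =>
    congrArg (fun y : H => (y : V ≃ₗ[ZMod 2] V) v) ht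
  have h1 : Nat.card V = Nat.card f.ker * Nat.card f.range := by
    rw [← AddSubgroup.index_ker, AddSubgroup.card_mul_index]
  have h2 : Nat.card f.ker = Nat.card (fe t) := by
    refine Nat.card_congr (Equiv.subtypeEquivRight fun v => ?_)
    show v + (t : V ≃ₗ[ZMod 2] V) v = 0 ↔ v ∈ fe t
    rw [mem_fe]
    constructor
    · intro h
      exact (eq_of_add_eq_zero' h).symm
    · intro h
      rw [h, add_self]
  have h3 : Nat.card f.range ≤ Nat.card (fe t) := by
    let g : f.range → fe t := fun w => ⟨w, by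
      obtain ⟨w, v, rfl⟩ := w
      rw [mem_fe]
      show (t : V ≃ₗ[ZMod 2] V) (v + (t : V ≃ₗ[ZMod 2] V) v) = v + (t : V ≃ₗ[ZMod 2] V) v
      rw [map_add, htt, add_comm]⟩
    exact Nat.card_le_card_of_injective g fun a b hab =>
      Subtype.ext (congrArg (fun x : fe t => (x : V)) hab)
  rw [h1, h2, pow_two]
  exact Nat.mul_le_mul_left _ h3

/-- An involution of `L` fixes exactly `|V|^{1/2}` vectors. -/
theorem card_fe_eq [Finite V] [Nontrivial V] (hH : TrLin H) (hLn : L.Normal) {t : L}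
    (ht : t * t = 1) (ht1 : t ≠ 1) : Nat.card (fe (t : H)) ^ 2 = Nat.card V := by
  have hfH : Finite (V ≃ₗ[ZMod 2] V) := finite_gl
  have hO : ¬ IsPGroup 2 (Subgroup.normalClosure {t} : Subgroup L) := by
    intro h
    have h1 : (Subgroup.normalClosure {t} : Subgroup L) ≤ pCore 2 L :=
      Lib.Cores.le_pCore inferInstance h
    have hch : (pCore 2 L).Characteristic := Lib.Cores.pCore_characteristic 2
    have hn : ((pCore 2 L).map L.subtype).Normal := inferInstance
    have hp : IsPGroup 2 ((pCore 2 L).map L.subtype) := (Lib.Cores.pCore_isPGroup 2).map _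
    have h2 := eq_bot_of_normal_p hH _ hn hp
    rw [Subgroup.map_eq_bot_iff_of_injective _ L.subtype_injective] at h2
    rw [h2] at h1
    exact ht1 (Subgroup.mem_bot.1 (h1 (Subgroup.subset_normalClosure rfl)))
  obtain ⟨h, hh1, hodd, hinv⟩ := Involutions.BaerSuzuki.exists_odd_inverted t ht hO
  have htinv : t⁻¹ = t := inv_eq_of_mul_eq_one_right ht
  have hth : (t * h) * (t * h) = 1 := by
    have h1 : t * h * t = h⁻¹ := by rw [← hinv, htinv]
    calc (t * h) * (t * h) = (t * h * t) * h := by simp only [mul_assoc]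
      _ = 1 := by rw [h1, inv_mul_cancel]
  have hA := card_fe_sq (H := H) (t := (t : H)) (congrArg Subtype.val ht)
  have hB := card_fe_sq (H := H) (t := ((t * h : L) : H)) (congrArg Subtype.val hth)
  have hcop : (orderOf (h : H)).Coprime 2 := by
    rw [Subgroup.orderOf_coe, Nat.coprime_two_right]
    exact hodd
  have hh1' : (h : H) ≠ 1 := fun h0 => hh1 (Subtype.ext h0)
  have hdisj : ∀ v : V, v ∈ fe (t : H) → v ∈ fe ((t * h : L) : H) → v = 0 := by
    intro v h1 h2
    rw [mem_fe] at h1 h2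
    apply fpf hH hcop hh1'
    have h3 : ((t : H) : V ≃ₗ[ZMod 2] V) (((h : H) : V ≃ₗ[ZMod 2] V) v) = v := h2
    apply ((t : H) : V ≃ₗ[ZMod 2] V).injective
    rw [h3, h1]
  have hAB : Nat.card (fe (t : H)) * Nat.card (fe ((t * h : L) : H)) ≤ Nat.card V := by
    rw [← Nat.card_prod]
    apply Nat.card_le_card_of_injective
      (fun x : fe (t : H) × fe ((t * h : L) : H) => (x.1 : V) + (x.2 : V))
    rintro ⟨a, b⟩ ⟨c, d⟩ hab
    have h1 : (a : V) + b = c + d := hab
    have h2 : (a : V) - c = d - b := by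
      rw [sub_eq_sub_iff_add_eq_add, h1, add_comm]
    have h3 : (a : V) - c = 0 := by
      apply hdisj
      · exact (fe (t : H)).sub_mem a.2 c.2
      · rw [h2]
        exact (fe ((t * h : L) : H)).sub_mem d.2 b.2
    have h4 : (a : V) = c := sub_eq_zero.1 h3
    have h5 : (b : V) = d := by
      rw [h3] at h2
      exact (sub_eq_zero.1 h2.symm).symm
    exact Prod.ext (Subtype.ext h4) (Subtype.ext h5)
  apply le_antisymm _ hA
  have hV : 0 < Nat.card V := Nat.card_pos
  set A := Nat.card (fe (t : H))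
  set B := Nat.card (fe ((t * h : L) : H))
  have h1 : A ^ 2 * Nat.card V ≤ Nat.card V * Nat.card V := by
    calc A ^ 2 * Nat.card V ≤ A ^ 2 * B ^ 2 := Nat.mul_le_mul_left _ hB
      _ = (A * B) * (A * B) := by ring
      _ ≤ Nat.card V * Nat.card V := Nat.mul_le_mul hAB hAB
  exact Nat.le_of_mul_le_mul_right h1 hV

/-- The fixed space of an involution of a Sylow subgroup `P` with `|C_V(P)|^2 = |V|`. -/
theorem fe_eq [Finite V] [Nontrivial V] (hH : TrLin H) (hLn : L.Normal) {P : Sylow 2 L}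
    (hsq : Nat.card (fxN (V := V) P) ^ 2 = Nat.card V) {z : L} (hzP : z ∈ (P : Subgroup L))
    (hz : z * z = 1) (hz1 : z ≠ 1) : fe (z : H) = fxN P := by
  have h1 : fxN (V := V) P ≤ fe (z : H) := by
    intro v hv
    rw [mem_fe]
    exact (mem_fxN.1 hv) hzP
  have h2 : Nat.card (fe (z : H)) = Nat.card (fxN (V := V) P) := by
    have h3 := card_fe_eq hH hLn hz hz1
    rw [← hsq] at h3
    exact Nat.pow_left_injective (n := 2) (by norm_num) h3
  have h3 : ((fxN (V := V) P : Submodule (ZMod 2) V) : Set V) = (fe (z : H) : Set V) := by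
    apply Set.eq_of_subset_of_ncard_le h1 _ (Set.toFinite _)
    exact le_of_eq h2
  exact (SetLike.coe_injective h3).symm

/-- The Sylow 2-subgroups are TI. -/
theorem ti [Finite V] [Nontrivial V] (hH : TrLin H) (hLn : L.Normal)
    (hsq : ∀ P : Sylow 2 L, Nat.card (fxN (V := V) P) ^ 2 = Nat.card V) {P Q : Sylow 2 L} {z : L}
    (hzP : z ∈ (P : Subgroup L)) (hzQ : z ∈ (Q : Subgroup L))
    (hz : z * z = 1) (hz1 : z ≠ 1) : P = Q := by
  obtain ⟨v, hv, hvP⟩ := exists_mem_fxN (V := V) P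
  have h1 := fe_eq hH hLn (hsq P) hzP hz hz1
  have h2 := fe_eq hH hLn (hsq Q) hzQ hz hz1
  have hvQ : v ∈ fxN (V := V) Q := by
    rw [← h2, h1]
    exact hvP
  apply Sylow.ext
  rw [eq_stN hH P hv hvP, eq_stN hH Q hv hvQ]

/-- The Sylow 2-subgroups have exponent two. -/
theorem sq_eq_one [Finite V] [Nontrivial V] (hH : TrLin H) (hLn : L.Normal) {P : Sylow 2 L}
    (hsq : Nat.card (fxN (V := V) P) ^ 2 = Nat.card V) {s : L} (hs : s ∈ (P : Subgroup L)) :
    s * s = 1 := by
  have hfH : Finite (V ≃ₗ[ZMod 2] V) := finite_gl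
  by_contra hne
  -- an element of order four
  obtain ⟨t, ht, htt, ht4⟩ : ∃ t ∈ (P : Subgroup L), t * t ≠ 1 ∧ (t * t) * (t * t) = 1 := by
    obtain ⟨k, hk⟩ := P.2 ⟨s, hs⟩
    have hk' : s ^ 2 ^ k = 1 := congrArg Subtype.val hk
    classical
    let j := Nat.find (show ∃ k : ℕ, s ^ 2 ^ k = 1 from ⟨k, hk'⟩)
    have hj : s ^ 2 ^ j = 1 := Nat.find_spec (show ∃ k : ℕ, s ^ 2 ^ k = 1 from ⟨k, hk'⟩)
    have hmin : ∀ i < j, s ^ 2 ^ i ≠ 1 := fun i hi =>
      Nat.find_min (show ∃ k : ℕ, s ^ 2 ^ k = 1 from ⟨k, hk'⟩) hi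
    have hj2 : 2 ≤ j := by
      by_contra hj2
      apply hne
      have hj1 : j = 0 ∨ j = 1 := by omega
      rcases hj1 with h | h
      · rw [h, pow_zero, pow_one] at hj
        rw [hj, one_mul]
      · rw [h, pow_one, pow_two] at hj
        exact hj
    obtain ⟨i, hi⟩ := Nat.exists_eq_add_of_le hj2
    have hm : ∀ e : ℕ, s ^ 2 ^ e * s ^ 2 ^ e = s ^ 2 ^ (e + 1) := fun e => by
      rw [← pow_add]
      congr 1
      rw [pow_succ]
      ring
    refine ⟨s ^ 2 ^ i, (P : Subgroup L).pow_mem hs _, ?_, ?_⟩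
    · rw [hm]
      exact hmin (i + 1) (by omega)
    · rw [hm, hm]
      have : i + 1 + 1 = j := by omega
      rw [this]
      exact hj
  set z := t * t with hz
  have hzP : z ∈ (P : Subgroup L) := (P : Subgroup L).mul_mem ht ht
  have hfe := fe_eq hH hLn hsq hzP ht4 htt
  -- `T` the linear map of `t`, `z = t^2`
  set T : V ≃ₗ[ZMod 2] V := ((t : H) : V ≃ₗ[ZMod 2] V) with hT
  have hzT : ∀ v : V, ((z : H) : V ≃ₗ[ZMod 2] V) v = T (T v) := fun v => rfl
  have hW : ∀ v : V, T (T v) = v → T v = v := by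
    intro v hv
    have h1 : v ∈ fe (z : H) := by
      rw [mem_fe, hzT]
      exact hv
    rw [hfe] at h1
    exact (mem_fxN.1 h1) ht
  have h4 : ∀ v : V, T (T (T (T v))) = v := by
    intro v
    have := congrArg (fun y : L => ((y : H) : V ≃ₗ[ZMod 2] V) v) ht4
    exact this
  have hall : ∀ v : V, T v = v := by
    intro v
    apply hW
    -- `u = z v + v`
    have hu : T (T (T v) + v) = T (T v) + v := by
      apply hW
      rw [map_add, map_add, h4, add_comm]
    have hw : T (T v + v) = T v + v := by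
      apply hW
      have h5 : T (T (T v)) + T v = T (T v) + v := by
        rw [← map_add]
        exact hu
      have h6 : T (T (T v + v)) = T (T (T v)) + T (T v) := by rw [map_add, map_add]
      rw [h6]
      have h7 : T (T (T v)) = T (T v) + v + T v := by
        rw [← h5, add_assoc, add_self, add_zero]
      rw [h7]
      have h8 : T (T v) + v + T v + T (T v) = (T (T v) + T (T v)) + (T v + v) := by abel
      rw [h8, add_self, zero_add]
    rw [map_add] at hw
    have h9 : T (T v) + T v + T v = T v + v + T v := by rw [hw]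
    rw [add_assoc, add_self, add_zero] at h9
    rw [h9]
    have h10 : T v + v + T v = (T v + T v) + v := by abel
    rw [h10, add_self, zero_add]
  apply htt
  apply Subtype.ext
  apply Subtype.ext
  ext v
  show T (T v) = v
  rw [hall, hall]

/-- Commuting involutions lie in a common Sylow subgroup. -/
theorem exists_common {X : Type*} [Group X] [Finite X] {u x : X} (hu : orderOf u = 2)
    (hx : orderOf x = 2) (h : Commute u x) :
    ∃ P : Sylow 2 X, u ∈ (P : Subgroup X) ∧ x ∈ (P : Subgroup X) := by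
  have hz : ∀ y : X, orderOf y = 2 → IsPGroup 2 (Subgroup.zpowers y) := by
    intro y hy
    rw [IsPGroup.iff_card]
    exact ⟨1, by rw [Nat.card_zpowers, hy, pow_one]⟩
  have h1 : IsPGroup 2 (Subgroup.zpowers u ⊔ Subgroup.zpowers x : Subgroup X) := by
    apply IsPGroup.to_sup_of_normal_right' (hz u hu) (hz x hx)
    rw [Subgroup.zpowers_le]
    apply Subgroup.centralizer_le_normalizer
    rw [Subgroup.mem_centralizer_iff]
    rintro _ ⟨k, rfl⟩
    exact ((h.zpow_right k).eq).symm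
  obtain ⟨P, hP⟩ := h1.exists_le_sylow
  exact ⟨P, hP (Subgroup.mem_sup_left (Subgroup.mem_zpowers u)),
    hP (Subgroup.mem_sup_right (Subgroup.mem_zpowers x))⟩

/-- A group with TI Sylow 2-subgroups which are not normal has one class of involutions. -/
theorem one_class {X : Type*} [Group X] [Finite X]
    (hti : ∀ (P Q : Sylow 2 X) (z : X), z ∈ (P : Subgroup X) → z ∈ (Q : Subgroup X) → orderOf z = 2 →
      P = Q) {P Q : Sylow 2 X} (hPQ : P ≠ Q) (h2 : 2 ∣ Nat.card X) :
    ∀ a b : X, orderOf a = 2 → orderOf b = 2 → IsConj a b := by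
  have hf : Fact (Nat.Prime 2) := ⟨Nat.prime_two⟩
  have key : ∀ a b : X, orderOf a = 2 → orderOf b = 2 →
      (∀ R : Sylow 2 X, a ∈ (R : Subgroup X) → b ∉ (R : Subgroup X)) → IsConj a b := by
    intro a b ha hb hR
    by_cases hodd : Odd (orderOf (a * b))
    · obtain ⟨j, -, -, h, -⟩ := TwoFusion.StronglyEmbeddedBasic.exists_swap a b ha hb hodd
      exact isConj_iff.2 ⟨j, h⟩
    · exfalso
      obtain ⟨w, -, hw, hwa, hwb, -⟩ := AschCrit.Basic.exists_central a b ha hb
        (orderOf_pos _) hodd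
      obtain ⟨R, hR1, hR2⟩ := exists_common hw ha hwa
      obtain ⟨R', hR1', hR2'⟩ := exists_common hw hb hwb
      have := hti R R' w hR1 hR1' hw
      subst this
      exact hR R hR2 hR2'
  have hex : ∀ R : Sylow 2 X, ∃ x ∈ (R : Subgroup X), orderOf x = 2 := by
    intro R
    have h3 : 2 ∣ Nat.card R := R.dvd_card_of_dvd_card h2
    obtain ⟨x, hx⟩ := exists_prime_orderOf_dvd_card' 2 h3
    exact ⟨x, x.2, (Subgroup.orderOf_coe x).trans hx⟩
  intro a b ha hb
  by_cases h : ∃ R : Sylow 2 X, a ∈ (R : Subgroup X) ∧ b ∈ (R : Subgroup X)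
  · obtain ⟨R, haR, hbR⟩ := h
    -- a Sylow subgroup different from `R`
    obtain ⟨S, hS⟩ : ∃ S : Sylow 2 X, S ≠ R := by
      by_cases h1 : P = R
      · exact ⟨Q, fun h2 => hPQ (by rw [h1, h2])⟩
      · exact ⟨P, h1⟩
    obtain ⟨w, hwS, hw⟩ := hex S
    have hwn : ∀ x : X, orderOf x = 2 → x ∈ (R : Subgroup X) → IsConj x w := by
      intro x hx hxR
      apply key x w hx hw
      intro T hxT hwT
      have h1 := hti R T x hxR hxT hx
      have h2 := hti S T w hwS hwT hw
      exact hS (h2.trans h1.symm)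
    exact (hwn a ha haR).trans (hwn b hb hbR).symm
  · push Not at h
    exact key a b ha hb h

/-- Counting the involutions. -/
theorem count_invol {X : Type*} [Group X] [Finite X]
    (hti : ∀ (P Q : Sylow 2 X) (z : X), z ∈ (P : Subgroup X) → z ∈ (Q : Subgroup X) → orderOf z = 2 →
      P = Q) (hexp : ∀ (P : Sylow 2 X), ∀ s ∈ (P : Subgroup X), s * s = 1)
    {P Q : Sylow 2 X} (hPQ : P ≠ Q) (h2 : 2 ∣ Nat.card X) {z : X} (hz : orderOf z = 2) :
    Nat.card (Sylow 2 X) * (Nat.card P - 1) ≤ (Subgroup.centralizer ({z} : Set X)).index := by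
  classical
  have hf : Fact (Nat.Prime 2) := ⟨Nat.prime_two⟩
  have hcl := one_class hti hPQ h2
  rw [← Blocks.Central.card_isConj]
  have hord : ∀ (R : Sylow 2 X) (x : R), x ≠ 1 → orderOf (x : X) = 2 := by
    intro R x hx
    apply orderOf_eq_prime
    · rw [pow_two]
      exact hexp R x x.2
    · intro h
      exact hx (Subtype.ext h)
  let f : (Σ R : Sylow 2 X, {x : R // x ≠ 1}) → {x : X | IsConj z x} := fun y =>
    ⟨(y.2.1 : X), hcl z _ hz (hord y.1 y.2.1 y.2.2)⟩
  have hfi : Function.Injective f := by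
    rintro ⟨R, x, hx⟩ ⟨S, y, hy⟩ hxy
    have h1 : (x : X) = y := congrArg Subtype.val hxy
    have h3 : R = S := hti R S x x.2 (by rw [h1]; exact y.2) (hord R x hx)
    subst h3
    have h4 : x = y := Subtype.ext h1
    subst h4
    rfl
  have h3 := Nat.card_le_card_of_injective f hfi
  refine le_trans (le_of_eq ?_) h3
  have : Fintype (Sylow 2 X) := Fintype.ofFinite _
  rw [Nat.card_sigma]
  have h4 : ∀ R : Sylow 2 X, Nat.card {x : R // x ≠ 1} = Nat.card P - 1 := by
    intro R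
    have h5 : Nat.card {x : R // x ≠ 1} + 1 = Nat.card R := by
      rw [← Finite.card_option]
      exact Nat.card_congr ((Equiv.optionSubtype (1 : R)).symm (Equiv.refl _)).1
    have h6 : Nat.card R = Nat.card P := Nat.card_congr (Sylow.equiv R P).toEquiv
    omega
  rw [Finset.sum_congr rfl fun R _ => h4 R, Finset.sum_const, smul_eq_mul, Finset.card_univ,
    ← Nat.card_eq_fintype_card (α := Sylow 2 X)]

/-- **The Suzuki groups do not occur.** -/
theorem no_suzuki [Finite V] [Nontrivial V] (hH : TrLin H) (hL : MinNS H L) {m : ℕ} (hm : 1 ≤ m)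
    (h : Nat.card (L ⧸ Subgroup.center L) =
      (2 ^ (2 * m + 1)) ^ 2 * ((2 ^ (2 * m + 1)) ^ 2 + 1) * (2 ^ (2 * m + 1) - 1)) : False := by
  classical
  have hfH : Finite (V ≃ₗ[ZMod 2] V) := finite_gl
  have hLn := hL.normal
  have hf : Fact (Nat.Prime 2) := ⟨Nat.prime_two⟩
  set a := 2 * m + 1 with ha
  have ha3 : 3 ≤ a := by omega
  obtain ⟨q, hq⟩ : ∃ q, q = 2 ^ a := ⟨_, rfl⟩
  rw [← hq] at h
  have hq8 : 8 ≤ q := by
    rw [hq]
    calc 8 = 2 ^ 3 := by norm_num
      _ ≤ 2 ^ a := Nat.pow_le_pow_right (by norm_num) ha3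
  have hqe : q % 2 = 0 := by
    rw [hq]
    have : 2 ∣ 2 ^ a := dvd_pow_self 2 (by omega)
    omega
  have hqq : q ^ 2 = 2 ^ (2 * a) := by rw [hq, ← pow_mul, mul_comm]
  have hqqe : q ^ 2 % 2 = 0 := by
    rw [pow_two, Nat.mul_mod, hqe]
  obtain ⟨m0, hm0⟩ : ∃ m0, m0 = (q ^ 2 + 1) * (q - 1) := ⟨_, rfl⟩
  have hm0odd : ¬ 2 ∣ m0 := by
    rw [hm0]
    intro h1
    rcases (Nat.Prime.dvd_mul Nat.prime_two).1 h1 with h2 | h2 <;> omega
  have hm0pos : 0 < m0 := Nat.pos_of_ne_zero fun h0 => hm0odd (h0 ▸ dvd_zero 2)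
  have hidx : (Subgroup.center L).index = m0 * 2 ^ (2 * a) := by
    rw [Subgroup.index, h, hm0, ← hqq]
    ring
  have hpN : 2 ∣ Nat.card L := by
    have h2 : (Subgroup.center L).index ∣ Nat.card L := Subgroup.index_dvd_card _
    rw [hidx] at h2
    exact ((dvd_pow_self 2 (by omega)).mul_left m0).trans h2
  obtain ⟨h1, h2⟩ := num hH hLn hpN (Subgroup.center L) le_rfl hidx hm0odd
  obtain ⟨n, hn0, hn⟩ := exists_card_V' 2 V
  rw [hn] at h1 h2
  -- `n = 4a`
  have hn4 : n = 4 * a := by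
    have h3 : 2 ^ (2 * a) + 1 ∣ 2 ^ n - 1 := by
      rw [← hqq]
      exact (Dvd.intro _ hm0.symm).trans h1
    obtain ⟨k, hk⟩ := two_mul_dvd (by omega) h3
    have h4 : m0 ≤ q ^ 3 := by
      rw [hm0]
      obtain ⟨r, hr⟩ := Nat.exists_eq_add_of_le hq8
      rw [hr]
      have : 8 + r - 1 = 7 + r := by omega
      rw [this]
      nlinarith
    have h5 : 2 ^ n < 2 ^ (6 * a) := by
      calc 2 ^ n ≤ (m0 - 1) ^ 2 := h2
        _ < (q ^ 3) ^ 2 := Nat.pow_lt_pow_left (by omega) (by norm_num)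
        _ = 2 ^ (6 * a) := by rw [hq, ← pow_mul, ← pow_mul]; congr 1; ring
    have h6 := (Nat.pow_lt_pow_iff_right (by norm_num : 1 < 2)).1 h5
    have h7 : k < 2 := by
      by_contra h8
      have : 2 * (2 * a) * 2 ≤ 2 * (2 * a) * k := Nat.mul_le_mul_left _ (by omega)
      omega
    have h8 : k ≠ 0 := by
      rintro rfl
      exact hn0 (by rw [hk]; ring)
    have h9 : k = 1 := by omega
    rw [h9] at hk
    omega
  have hV : Nat.card V = q ^ 4 := by
    rw [hn, hn4, hq, ← pow_mul]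
    congr 1
    ring
  have hq4 : m0 * (q + 1) = q ^ 4 - 1 := by
    have h3 : q ^ 4 - 1 = (q ^ 2 + 1) * (q ^ 2 - 1) := by
      have := Nat.sq_sub_sq (q ^ 2) 1
      rw [← pow_mul] at this
      simpa using this
    have h4 : q ^ 2 - 1 = (q + 1) * (q - 1) := by
      have := Nat.sq_sub_sq q 1
      simpa using this
    rw [h3, h4, hm0]
    ring
  -- involutions in Sylow subgroups
  have hex : ∀ R : Sylow 2 L, ∃ x ∈ (R : Subgroup L), orderOf x = 2 := by
    intro R
    have h3 : 2 ∣ Nat.card R := R.dvd_card_of_dvd_card hpN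
    obtain ⟨x, hx⟩ := exists_prime_orderOf_dvd_card' 2 h3
    exact ⟨x, x.2, (Subgroup.orderOf_coe x).trans hx⟩
  have hord : ∀ x : L, orderOf x = 2 → x * x = 1 ∧ x ≠ 1 := by
    intro x hx
    constructor
    · have h3 := pow_orderOf_eq_one x
      rw [hx, pow_two] at h3
      exact h3
    · rintro rfl
      rw [orderOf_one] at hx
      omega
  -- the number of Sylow subgroups
  have hodd : Nat.card (Sylow 2 L) ∣ m0 := by
    obtain ⟨P⟩ := (inferInstance : Nonempty (Sylow 2 L))
    have h4 : Nat.card (Sylow 2 L) ∣ m0 * 2 ^ (2 * a) := by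
      rw [P.card_eq_index_normalizer, ← hidx]
      exact Subgroup.index_dvd_of_le (Subgroup.center_le_normalizer _)
    have h5 : Nat.Coprime (Nat.card (Sylow 2 L)) (2 ^ (2 * a)) :=
      (((Nat.Prime.coprime_iff_not_dvd Nat.prime_two).2 (not_dvd_card_sylow 2 L)).symm).pow_right _
    exact h5.dvd_of_dvd_mul_right h4
  obtain ⟨k, hk⟩ := hodd
  have hn2pos : 0 < Nat.card (Sylow 2 L) := Nat.card_pos
  have hW : ∀ P : Sylow 2 L, Nat.card (fxN (V := V) P) = q ^ 2 ∧ k * (q + 1) = q ^ 2 - 1 := by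
    intro P
    obtain ⟨b, hb⟩ := exists_card_V 2 (fxN (V := V) P)
    have hc := count hH hLn P
    rw [hV, ← hq4, hk, hb] at hc
    have h3 : k * (q + 1) = 2 ^ b - 1 := by
      apply Nat.eq_of_mul_eq_mul_left hn2pos
      rw [← hc]
      ring
    have h4 : 2 ^ a + 1 ∣ 2 ^ b - 1 := by
      rw [← h3, ← hq]
      exact Dvd.intro_left _ rfl
    obtain ⟨j, hj⟩ := two_mul_dvd (by omega) h4
    obtain ⟨z, hzP, hz⟩ := hex P
    obtain ⟨hz1, hz2⟩ := hord z hz
    have h5 := card_fe_eq hH hLn hz1 hz2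
    have h6 : Nat.card (fxN (V := V) P) ≤ Nat.card (fe (V := V) (z : H)) := by
      apply Nat.card_le_card_of_injective
        (fun v : fxN (V := V) P => (⟨v, mem_fe.2 ((mem_fxN.1 v.2) hzP)⟩ : fe (V := V) (z : H)))
      intro v w hvw
      exact Subtype.ext (congrArg (fun x : fe (V := V) (z : H) => (x : V)) hvw)
    have h7 : 2 ^ (b * 2) ≤ 2 ^ (4 * a) := by
      calc 2 ^ (b * 2) = Nat.card (fxN (V := V) P) ^ 2 := by rw [hb, ← pow_mul]
        _ ≤ Nat.card (fe (V := V) (z : H)) ^ 2 := Nat.pow_le_pow_left h6 2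
        _ = 2 ^ (4 * a) := by rw [h5, hn, hn4]
    have h8 := (Nat.pow_le_pow_iff_right (by norm_num : 1 < 2)).1 h7
    have hb0 : b ≠ 0 := by
      rintro rfl
      obtain ⟨v, hv, hvP⟩ := exists_mem_fxN (V := V) P
      rw [pow_zero] at hb
      have := (Nat.card_eq_one_iff_unique.1 hb).1
      exact hv (congrArg Subtype.val (Subsingleton.elim (⟨v, hvP⟩ : fxN (V := V) P) 0))
    have h9 : j < 2 := by
      by_contra h9
      have : 2 * a * 2 ≤ 2 * a * j := Nat.mul_le_mul_left _ (by omega)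
      omega
    have h10 : j ≠ 0 := by
      rintro rfl
      exact hb0 (by rw [hj]; ring)
    have h11 : j = 1 := by omega
    have hb2 : b = 2 * a := by rw [hj, h11, mul_one]
    rw [hb2, ← hqq] at hb h3
    exact ⟨hb, h3⟩
  have hsq : ∀ P : Sylow 2 L, Nat.card (fxN (V := V) P) ^ 2 = Nat.card V := by
    intro P
    rw [(hW P).1, hV, ← pow_mul]
  have hti : ∀ (P Q : Sylow 2 L) (z : L), z ∈ (P : Subgroup L) → z ∈ (Q : Subgroup L) →
      orderOf z = 2 → P = Q := by
    intro P Q z h3 h4 h5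
    obtain ⟨hz1, hz2⟩ := hord z h5
    exact ti hH hLn hsq h3 h4 hz1 hz2
  have hexp : ∀ (P : Sylow 2 L), ∀ s ∈ (P : Subgroup L), s * s = 1 := fun P s hs =>
    sq_eq_one hH hLn (hsq P) hs
  obtain ⟨P⟩ := (inferInstance : Nonempty (Sylow 2 L))
  have hkq : k = q - 1 := by
    have h3 := (hW P).2
    have h4 : q ^ 2 - 1 = (q - 1) * (q + 1) := by
      have := Nat.sq_sub_sq q 1
      rw [mul_comm]
      simpa using this
    rw [h4] at h3
    exact Nat.eq_of_mul_eq_mul_right (by omega) h3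
  have hn2 : Nat.card (Sylow 2 L) = q ^ 2 + 1 := by
    rw [hkq, hm0] at hk
    exact (Nat.eq_of_mul_eq_mul_right (by omega) hk).symm
  obtain ⟨Q, hQ⟩ : ∃ Q : Sylow 2 L, P ≠ Q := by
    by_contra hno
    push Not at hno
    have : Subsingleton (Sylow 2 L) := ⟨fun x y => by rw [← hno x, ← hno y]⟩
    have h3 : Nat.card (Sylow 2 L) ≤ 1 := Finite.card_le_one_iff_subsingleton.2 this
    rw [hn2] at h3
    have : 0 < q ^ 2 := by positivity
    omega
  obtain ⟨z, hzP, hz⟩ := hex P
  have hci := count_invol hti hexp hQ hpN hz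
  -- the index of the centralizer
  have hc1 : (Subgroup.centralizer ({z} : Set L)).index ∣ m0 * 2 ^ (2 * a) := by
    rw [← hidx]
    exact Subgroup.index_dvd_of_le (Subgroup.center_le_centralizer _)
  have hc2 : ¬ 2 ∣ (Subgroup.centralizer ({z} : Set L)).index := by
    intro h3
    have h4 : (P : Subgroup L) ≤ Subgroup.centralizer ({z} : Set L) := by
      intro x hx
      rw [Subgroup.mem_centralizer_iff]
      intro y hy
      rw [Set.mem_singleton_iff.1 hy]
      have hx2 := hexp P x hx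
      have hz2 := hexp P z hzP
      have hxz2 := hexp P (z * x) ((P : Subgroup L).mul_mem hzP hx)
      have h5 : (z * x)⁻¹ = z * x := inv_eq_of_mul_eq_one_right hxz2
      rw [mul_inv_rev, inv_eq_of_mul_eq_one_right hx2, inv_eq_of_mul_eq_one_right hz2] at h5
      exact h5.symm
    exact P.not_dvd_index (h3.trans (Subgroup.index_dvd_of_le h4))
  have hc3 : (Subgroup.centralizer ({z} : Set L)).index ∣ m0 :=
    (((Nat.Prime.coprime_iff_not_dvd Nat.prime_two).2 hc2).symm.pow_right _).dvd_of_dvd_mul_right hc1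
  have hc4 := Nat.le_of_dvd hm0pos hc3
  have hP : 2 ^ (2 * a) ∣ Nat.card P := by
    apply P.pow_dvd_card_of_pow_dvd_card
    have h3 : (Subgroup.center L).index ∣ Nat.card L := Subgroup.index_dvd_card _
    rw [hidx] at h3
    exact (Dvd.intro_left _ rfl).trans h3
  have hP2 := Nat.le_of_dvd Nat.card_pos hP
  rw [← hqq] at hP2
  rw [hn2] at hci
  have h3 : (q ^ 2 + 1) * (Nat.card P - 1) ≤ (q ^ 2 + 1) * (q - 1) := by
    rw [← hm0]
    exact hci.trans hc4
  have h4 := Nat.le_of_mul_le_mul_left h3 (by positivity)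
  have h5 : q * 2 ≤ q ^ 2 := by
    rw [pow_two]
    exact Nat.mul_le_mul_left q (by omega)
  omega

end Cfsg.Agent.H688.TransSuz
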