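import Mathlib
import Cfsg.Agent.H688.TransEvenB
import Cfsg.Agent.H688.TransSuz

/-!
# Non-solvable linear groups transitive on vectors with stabilizers `p`-groups: the shapes
-/

set_option autoImplicit false

namespace Cfsg.Agent.H688.TransMain

open Cfsg Module Cfsg.Agent.H688.TransLin Cfsg.Agent.H688.TransSolv Cfsg.Agent.H688.TransMin
open Cfsg.Agent.H688.TransCount Cfsg.Agent.H688.TransShape
open Cfsg.Agent.H688.TransOdd Cfsg.Agent.H688.TransOddB Cfsg.Agent.H688.TransOddC
open Cfsg.Agent.H688.TransOddD Cfsg.Agent.H688.TransEvenA Cfsg.Agent.H688.TransEvenB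
open Cfsg.Agent.PermutationGroups.RegularLinear Cfsg.Agent.PermutationGroups

/-- **Characteristic two.** -/
theorem even_case {V : Type*} [AddCommGroup V] [Module (ZMod 2) V] {H : Subgroup (V ≃ₗ[ZMod 2] V)}
    [Finite V] [Nontrivial V] (hH : TrLin H) (hns : ¬ Group.IsSolvable H) : ShapeI 2 H := by
  have hfH : Finite (V ≃ₗ[ZMod 2] V) := finite_gl
  obtain ⟨L, hL⟩ := exists_minNS hns
  have hsimp : IsSimpleGroup (L ⧸ Subgroup.center L) := simple_quot rfl hH hL
  have hperf := perf_quot hL.perf' (Subgroup.center L)
  have hnc : ∃ a b : L ⧸ Subgroup.center L, a * b ≠ b * a := by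
    by_contra hno
    push Not at hno
    have h1 : commutator (L ⧸ Subgroup.center L) = ⊥ := by
      rw [commutator_def, eq_bot_iff, Subgroup.commutator_le]
      intro a _ b _
      rw [Subgroup.mem_bot, commutatorElement_eq_one_iff_mul_comm]
      exact hno a b
    rw [hperf] at h1
    exact top_ne_bot h1
  have hcyc : ∀ (q : ℕ) (P : Sylow q (L ⧸ Subgroup.center L)), q.Prime → q ≠ 2 → IsCyclic P := by
    intro q P hq hq2
    have hqf : Fact q.Prime := ⟨hq⟩
    exact isCyclic_of_quot hH L hq2 hq2 (QuotientGroup.mk' _) (QuotientGroup.mk'_surjective _)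
      (P : Subgroup (L ⧸ Subgroup.center L)) P.isPGroup'
  rcases Cfsg.Agent.S0342.result (G := L ⧸ Subgroup.center L) hnc hcyc with
    ⟨F, _, _, hF, ⟨e⟩⟩ | h | h
  · rcases hF with hprime | ⟨a, ha⟩
    · by_cases h3 : 3 < Fintype.card F
      · exact psl_prime hH hL hprime h3 e
      · exfalso
        have hodd2 : Fintype.card F = 2 ∨ Fintype.card F = 3 := by
          have := hprime.two_le
          omega
        rcases hodd2 with hc | hc
        · have heven : Even (Fintype.card F) := by rw [hc]; decide
          have hcard := Nat.card_congr e.toEquiv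
          rw [Cfsg.Agent.ClassicalGeometry.PSL2Basic.card_PSL2_even F heven, hc] at hcard
          apply no_small hL (c := 6) (by rw [hcard]; norm_num) _ (by norm_num)
          have h5 : Nat.primeFactors 6 = {2, 3} := by
            rw [show (6 : ℕ) = 2 * 3 by norm_num, Nat.primeFactors_mul (by norm_num) (by norm_num),
              Nat.prime_two.primeFactors, Nat.prime_three.primeFactors]
            rfl
          rw [h5]
          decide
        · have hodd : Odd (Fintype.card F) := by rw [hc]; decide
          have hcard := Nat.card_congr e.toEquiv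
          have h2 : Nat.card (Matrix.ProjectiveSpecialLinearGroup (Fin 2) F) * 2 = 24 := by
            rw [Cfsg.Agent.ClassicalGeometry.PSL2Basic.card_PSL2_odd F hodd, hc]
            norm_num
          apply no_small hL (c := 12) (by rw [hcard]; omega) _ (by norm_num)
          have h5 : Nat.primeFactors 12 = {2, 3} := by
            rw [show (12 : ℕ) = 2 ^ 2 * 3 by norm_num, Nat.primeFactors_mul (by norm_num)
              (by norm_num), Nat.primeFactors_prime_pow (by norm_num) Nat.prime_two,
              Nat.prime_three.primeFactors]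
            rfl
          rw [h5]
          decide
    · exact psl_char hH hL ha e
  · obtain ⟨-, m, hm, hcard⟩ := h
    refine absurd (TransSuz.no_suzuki hH hL hm ?_) id
    exact hcard
  · exact absurd (no_j1 hH hL h.2) id

/-- **All characteristics.** -/
theorem shape {p : ℕ} [Fact p.Prime] {V : Type*} [AddCommGroup V] [Module (ZMod p) V]
    {H : Subgroup (V ≃ₗ[ZMod p] V)} [Finite V] [Nontrivial V] (hH : TrLin H)
    (hns : ¬ Group.IsSolvable H) : Shape p H := by
  by_cases hp2 : p = 2
  · subst hp2
    exact Or.inl (even_case hH hns)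
  · exact odd_case hH hp2 hns

end Cfsg.Agent.H688.TransMain
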