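import Mathlib

/-!
# Numerical lemmas
-/

set_option autoImplicit false

namespace Cfsg.Agent.H688.TransNum

theorem three_pow_bound (k : ℕ) (hk : 18 ≤ k) : (2 * k + 1) ^ 6 < 4 * 3 ^ (k + 2) := by
  induction k, hk using Nat.le_induction with
  | base => norm_num
  | succ k hk ih =>
    have h1 : 37 * (2 * (k + 1) + 1) ≤ 39 * (2 * k + 1) := by omega
    have h2 := Nat.pow_le_pow_left h1 6
    rw [mul_pow, mul_pow] at h2
    have h3 : 4 * 3 ^ (k + 1 + 2) = 3 * (4 * 3 ^ (k + 2)) := by ring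
    rw [h3]
    generalize (2 * (k + 1) + 1) ^ 6 = A at *
    generalize (2 * k + 1) ^ 6 = B at *
    generalize 4 * 3 ^ (k + 2) = C at *
    norm_num at h2
    omega

theorem two_pow_bound (k : ℕ) (hk : 30 ≤ k) : (2 * k + 1) ^ 6 < 64 * 2 ^ k := by
  induction k, hk using Nat.le_induction with
  | base => norm_num
  | succ k hk ih =>
    have h1 : 61 * (2 * (k + 1) + 1) ≤ 63 * (2 * k + 1) := by omega
    have h2 := Nat.pow_le_pow_left h1 6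
    rw [mul_pow, mul_pow] at h2
    have h3 : 64 * 2 ^ (k + 1) = 2 * (64 * 2 ^ k) := by ring
    rw [h3]
    generalize (2 * (k + 1) + 1) ^ 6 = A at *
    generalize (2 * k + 1) ^ 6 = B at *
    generalize 64 * 2 ^ k = C at *
    norm_num at h2
    omega

theorem mul_sub_le (l : ℕ) : l * (l ^ 2 - 1) ≤ l ^ 3 := by
  calc l * (l ^ 2 - 1) ≤ l * l ^ 2 := Nat.mul_le_mul_left _ (Nat.sub_le _ _)
    _ = l ^ 3 := by ring

/-- The odd characteristic case. -/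
theorem num_odd {l p n m s : ℕ} (hl : l.Prime) (hp : p.Prime) (h5 : 5 ≤ l) (hp3 : 3 ≤ p)
    (hpl : p ≠ l) (hs : 1 ≤ s) (hD : l * (l ^ 2 - 1) = 2 * m * p ^ s) (hm : 2 * m ∣ p ^ n - 1)
    (hb : p ^ n ≤ (m - 1) ^ 2) (hn : (l - 1) / 2 ≤ n) :
    (l = 5 ∧ p = 3 ∧ n = 4) ∨ (l = 13 ∧ p = 3 ∧ n = 6) := by
  have hodd : l % 2 = 1 := by
    rcases hl.eq_two_or_odd with h | h
    · omega
    · exact h
  have hDpos : 0 < l * (l ^ 2 - 1) := by
    have : 5 ^ 2 ≤ l ^ 2 := Nat.pow_le_pow_left h5 2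
    apply Nat.mul_pos (by omega)
    omega
  have hm0 : 0 < m := by
    rcases Nat.eq_zero_or_pos m with h | h
    · rw [h] at hD
      rw [hD] at hDpos
      simp at hDpos
    · exact h
  -- 4 p^(n+2) < D^2
  have hmp : 2 * m * p ≤ l * (l ^ 2 - 1) := by
    rw [hD]
    exact Nat.mul_le_mul_left _ (by
      calc p = p ^ 1 := (pow_one p).symm
        _ ≤ p ^ s := Nat.pow_le_pow_right hp.pos hs)
  have hb1 : 4 * p ^ (n + 2) < (l * (l ^ 2 - 1)) ^ 2 := by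
    have h1 : (m - 1) ^ 2 < m ^ 2 := Nat.pow_lt_pow_left (by omega) (by norm_num)
    calc 4 * p ^ (n + 2) = 4 * p ^ 2 * p ^ n := by ring
      _ < 4 * p ^ 2 * m ^ 2 := by
        apply Nat.mul_lt_mul_of_pos_left (hb.trans_lt h1)
        positivity
      _ = (2 * m * p) ^ 2 := by ring
      _ ≤ _ := Nat.pow_le_pow_left hmp 2
  have hD3 : l * (l ^ 2 - 1) ≤ l ^ 3 := mul_sub_le l
  have hb2 : 4 * p ^ (n + 2) < l ^ 6 := by
    calc 4 * p ^ (n + 2) < (l * (l ^ 2 - 1)) ^ 2 := hb1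
      _ ≤ (l ^ 3) ^ 2 := Nat.pow_le_pow_left hD3 2
      _ = l ^ 6 := by ring
  have hl37 : l < 37 := by
    by_contra hlt
    obtain ⟨k, hk⟩ : ∃ k, l = 2 * k + 1 := ⟨l / 2, by omega⟩
    have h1 := three_pow_bound k (by omega)
    rw [← hk] at h1
    have h2 : 3 ^ (k + 2) ≤ p ^ (n + 2) := by
      calc 3 ^ (k + 2) ≤ p ^ (k + 2) := Nat.pow_le_pow_left hp3 _
        _ ≤ p ^ (n + 2) := Nat.pow_le_pow_right hp.pos (by omega)
    omega
  have hs9 : s ≤ 12 := by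
    by_contra hs9
    have h1 : 3 ^ 13 ≤ p ^ s := by
      calc 3 ^ 13 ≤ p ^ 13 := Nat.pow_le_pow_left hp3 _
        _ ≤ p ^ s := Nat.pow_le_pow_right hp.pos (by omega)
    have h2 : p ^ s ≤ l * (l ^ 2 - 1) := by
      rw [hD]
      exact Nat.le_mul_of_pos_left _ (by omega)
    have h3 : l ^ 3 ≤ 37 ^ 3 := Nat.pow_le_pow_left (by omega) 3
    norm_num at h1 h3
    omega
  have hdvd : l * (l ^ 2 - 1) ∣ (p ^ n - 1) * p ^ 12 := by
    rw [hD]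
    exact mul_dvd_mul hm (pow_dvd_pow p hs9)
  have hp8 : p < 8 := by
    by_contra hp8
    have h1 : 8 ^ ((l - 1) / 2 + 2) ≤ p ^ (n + 2) := by
      calc 8 ^ ((l - 1) / 2 + 2) ≤ p ^ ((l - 1) / 2 + 2) := Nat.pow_le_pow_left (by omega) _
        _ ≤ p ^ (n + 2) := Nat.pow_le_pow_right hp.pos (by omega)
    have h2 : ∀ l < 37, 5 ≤ l → l % 2 = 1 → l ^ 6 ≤ 4 * 8 ^ ((l - 1) / 2 + 2) := by decide +kernel
    have := h2 l hl37 h5 hodd
    omega
  have hn20 : n < 20 := by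
    by_contra hn20
    have h1 : 3 ^ 22 ≤ p ^ (n + 2) := by
      calc 3 ^ 22 ≤ p ^ 22 := Nat.pow_le_pow_left hp3 _
        _ ≤ p ^ (n + 2) := Nat.pow_le_pow_right hp.pos (by omega)
    have h3 : l ^ 6 ≤ 37 ^ 6 := Nat.pow_le_pow_left (by omega) 6
    norm_num at h1 h3
    omega
  have key : ∀ l ∈ ([5, 7, 11, 13, 17, 19, 23, 29, 31] : List ℕ), ∀ p ∈ ([3, 5, 7] : List ℕ), ∀ n < 20,
      p ≠ l → l * (l ^ 2 - 1) ∣ (p ^ n - 1) * p ^ 12 → 4 * p ^ (n + 2) < (l * (l ^ 2 - 1)) ^ 2 →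
      (l - 1) / 2 ≤ n → (l = 5 ∧ p = 3 ∧ n = 4) ∨ (l = 13 ∧ p = 3 ∧ n = 6) := by decide +kernel
  refine key l ?_ p ?_ n hn20 hpl hdvd hb1 hn
  · interval_cases l <;> first | decide | (exfalso; revert hl; norm_num)
  · interval_cases p <;> first | decide | (exfalso; revert hp; norm_num)

/-- The even characteristic case. -/
theorem num_even {l n m s : ℕ} (hl : l.Prime) (h5 : 5 ≤ l) (hD : l * (l ^ 2 - 1) = m * 2 ^ s)
    (hmo : m % 2 = 1) (hm : m ∣ 2 ^ n - 1)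
    (hb : 2 ^ n ≤ (m - 1) ^ 2) (hn : (l - 1) / 2 ≤ n) :
    (l = 5 ∧ n = 4) ∨ (l = 7 ∧ n = 6) ∨ (l = 13 ∧ n = 12) := by
  have hodd : l % 2 = 1 := by
    rcases hl.eq_two_or_odd with h | h
    · omega
    · exact h
  have hDpos : 0 < l * (l ^ 2 - 1) := by
    have : 5 ^ 2 ≤ l ^ 2 := Nat.pow_le_pow_left h5 2
    apply Nat.mul_pos (by omega)
    omega
  have h8 : 8 ∣ l * (l ^ 2 - 1) := by
    obtain ⟨k, hk⟩ : ∃ k, l = 2 * k + 1 := ⟨l / 2, by omega⟩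
    apply Dvd.dvd.mul_left
    rw [hk]
    have h1 : (2 * k + 1) ^ 2 - 1 = 4 * (k * (k + 1)) := by
      have : (2 * k + 1) ^ 2 = 4 * (k * (k + 1)) + 1 := by ring
      omega
    rw [h1]
    obtain ⟨j, hj⟩ := Nat.even_mul_succ_self k
    rw [hj]
    omega
  have hs3 : 3 ≤ s := by
    have h1 : 2 ^ 3 ∣ m * 2 ^ s := by rw [← hD]; exact h8
    have h2 : Nat.Coprime (2 ^ 3) m := by
      apply Nat.Coprime.pow_left
      exact (Nat.Prime.coprime_iff_not_dvd Nat.prime_two).2 (by omega)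
    exact (Nat.pow_dvd_pow_iff_le_right (by norm_num)).1 (h2.dvd_of_dvd_mul_left h1)
  have hm0 : 0 < m := by omega
  have hm8 : 8 * m ≤ l * (l ^ 2 - 1) := by
    rw [hD, mul_comm 8 m]
    exact Nat.mul_le_mul_left _ (by
      calc 8 = 2 ^ 3 := by norm_num
        _ ≤ 2 ^ s := Nat.pow_le_pow_right (by norm_num) hs3)
  have hD3 : l * (l ^ 2 - 1) ≤ l ^ 3 := mul_sub_le l
  have hb2 : 64 * 2 ^ n < l ^ 6 := by
    have h1 : (m - 1) ^ 2 < m ^ 2 := Nat.pow_lt_pow_left (by omega) (by norm_num)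
    calc 64 * 2 ^ n < 64 * m ^ 2 := by omega
      _ = (8 * m) ^ 2 := by ring
      _ ≤ (l ^ 3) ^ 2 := Nat.pow_le_pow_left (hm8.trans hD3) 2
      _ = l ^ 6 := by ring
  have hl61 : l < 61 := by
    by_contra hlt
    obtain ⟨k, hk⟩ : ∃ k, l = 2 * k + 1 := ⟨l / 2, by omega⟩
    have h1 := two_pow_bound k (by omega)
    rw [← hk] at h1
    have h2 : 2 ^ k ≤ 2 ^ n := Nat.pow_le_pow_right (by norm_num) (by omega)
    omega
  have hs18 : s < 18 := by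
    by_contra hs
    have h1 : 2 ^ 18 ≤ 2 ^ s := Nat.pow_le_pow_right (by norm_num) (by omega)
    have h2 : 2 ^ s ≤ l * (l ^ 2 - 1) := by
      rw [hD]
      exact Nat.le_mul_of_pos_left _ (by omega)
    have h3 : l ^ 3 ≤ 60 ^ 3 := Nat.pow_le_pow_left (by omega) 3
    norm_num at h1 h3
    omega
  have hn36 : n < 36 := by
    by_contra hn36
    have h1 : 2 ^ 36 ≤ 2 ^ n := Nat.pow_le_pow_right (by norm_num) (by omega)
    have h3 : l ^ 6 ≤ 61 ^ 6 := Nat.pow_le_pow_left (by omega) 6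
    norm_num at h1 h3
    omega
  have hmeq : m = l * (l ^ 2 - 1) / 2 ^ s := by
    rw [hD, Nat.mul_div_cancel _ (by positivity)]
  have key : ∀ l ∈ ([5, 7, 11, 13, 17, 19, 23, 29, 31, 37, 41, 43, 47, 53, 59] : List ℕ),
      ∀ s < 18, ∀ n < 36, ((l * (l ^ 2 - 1) / 2 ^ s) % 2 = 1 ∧
      l * (l ^ 2 - 1) = (l * (l ^ 2 - 1) / 2 ^ s) * 2 ^ s ∧
      (2 ^ n - 1) % (l * (l ^ 2 - 1) / 2 ^ s) = 0 ∧ 2 ^ n ≤ (l * (l ^ 2 - 1) / 2 ^ s - 1) ^ 2) →
      (l = 5 ∧ n = 4) ∨ (l = 7 ∧ n = 6) ∨ (l = 13 ∧ n = 12) ∨ n < (l - 1) / 2 := by decide +kernel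
  rw [hmeq] at hmo hD hm hb
  have hmem : l ∈ ([5, 7, 11, 13, 17, 19, 23, 29, 31, 37, 41, 43, 47, 53, 59] : List ℕ) := by
    interval_cases l <;> first | decide | (exfalso; revert hl; norm_num)
  rcases key l hmem s hs18 n hn36 ⟨hmo, hD, Nat.mod_eq_zero_of_dvd hm, hb⟩ with h | h | h | h
  · exact Or.inl h
  · exact Or.inr (Or.inl h)
  · exact Or.inr (Or.inr h)
  · omega

end Cfsg.Agent.H688.TransNum
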